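import Groth.Agent.TFCurvPush.Basic

/-!
# Stability of direct images
-/

set_option autoImplicit false
set_option linter.style.haveILetI false
set_option linter.unusedSectionVars false
set_option maxHeartbeats 800000
set_option backward.isDefEq.respectTransparency false
set_option backward.isDefEq.respectTransparency.types false

universe u
open CategoryTheory CategoryTheory.Limits AlgebraicGeometry TopologicalSpace Polynomial StabCat

namespace Groth.Agent.TFCurvPush

variable (k : Type u) [Field k] {X Y : Scheme.{u}} [X.Over (Spec (CommRingCat.of k))]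
  [Y.Over (Spec (CommRingCat.of k))] [IsIntegral X] [IsIntegral Y] [IsProper (X ↘ Spec (CommRingCat.of k))]
  (π : Y ⟶ X) [IsFinite π] (hπ : π ≫ (X ↘ Spec (CommRingCat.of k)) = Y ↘ Spec (CommRingCat.of k))
  (V : X.Opens) (hV : (V : Set X).Nonempty) [IsIso (π ∣_ V)]

include hπ hV in
theorem dim_eq : topologicalKrullDim Y = topologicalKrullDim X := by
  haveI : IsProper (Y ↘ Spec (CommRingCat.of k)) := hπ ▸ inferInstance
  rw [VarDim.topologicalKrullDim_eq_iSup_deg (Y ↘ Spec (CommRingCat.of k)),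
    VarDim.topologicalKrullDim_eq_iSup_deg (X ↘ Spec (CommRingCat.of k))]
  have hgen := generic_eq π V hV
  obtain ⟨v, hv⟩ := hV
  have hη : π (genericPoint Y) ∈ V := by rw [hgen]; exact TorLib.genericPoint_mem hv
  let z : (π ⁻¹ᵁ V).toScheme := ⟨genericPoint Y, hη⟩
  let j := (π ∣_ V) ≫ V.ι
  have hj : j z = genericPoint X := by
    show ((π ∣_ V) ≫ V.ι) z = _
    rw [morphismRestrict_ι]
    exact hgen
  have h1 : VarDim.deg (Y ↘ Spec (CommRingCat.of k)) (genericPoint Y) =
      VarDim.deg (X ↘ Spec (CommRingCat.of k)) (genericPoint X) := by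
    rw [← hj, ← VarDim.deg_comp (X ↘ Spec (CommRingCat.of k)) j z]
    refine (VarDim.deg_comp (Y ↘ Spec (CommRingCat.of k)) (π ⁻¹ᵁ V).ι z).symm.trans ?_
    congr 1
    rw [← hπ]
    exact (morphismRestrict_ι_assoc π V _).symm.trans (Category.assoc _ _ _).symm
  refine le_antisymm (iSup_le fun y => le_iSup_of_le (genericPoint X) ?_)
    (iSup_le fun x => le_iSup_of_le (genericPoint Y) ?_)
  · rw [← h1]
    exact_mod_cast VarDim.deg_le_of_specializes (Y ↘ Spec (CommRingCat.of k)) (genericPoint_specializes y)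
  · rw [h1]
    exact_mod_cast VarDim.deg_le_of_specializes (X ↘ Spec (CommRingCat.of k)) (genericPoint_specializes x)

variable {L : X.Modules}

theorem nonempty_push_tensor (F : Y.Modules) {N : X.Modules} (hN : PicF.IsInvertible N) :
    Nonempty (CohB1.tensorMod N ((Scheme.Modules.pushforward π).obj F) ≅
      (Scheme.Modules.pushforward π).obj (CohB1.tensorMod ((Scheme.Modules.pullback π).obj N) F)) := by
  haveI : EnoughInjectives Y.Modules := inferInstance
  obtain ⟨φ⟩ := S0927.result π F N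
    (fun y => let ⟨W, hy, he⟩ := InvEnd.isFinLocFreeOfRank_one hN y; ⟨W, 1, hy, he⟩) 0
  let ψ := (Scheme.Modules.pushforward π).rightDerivedZeroIsoSelf
  let a : (DCoh.tensorBi.obj N).obj ((Scheme.Modules.pushforward π).obj F) ≅
      (Scheme.Modules.pushforward π).obj (CohB1.tensorMod ((Scheme.Modules.pullback π).obj N) F) :=
    (DCoh.tensorBi.obj N).mapIso (ψ.app F).symm ≪≫ φ ≪≫ ψ.app _
  exact ⟨a⟩

theorem nonempty_twist_push (hL : PicF.IsInvertible L) (M : Y.Modules) (m : ℕ) :
    Nonempty (ShStab.twist X L ((Scheme.Modules.pushforward π).obj M) m ≅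
      (Scheme.Modules.pushforward π).obj (ShStab.twist Y ((Scheme.Modules.pullback π).obj L) M m)) := by
  obtain ⟨a⟩ := nonempty_push_tensor π M (InvX.isInvertible_tensorPow hL m)
  obtain ⟨e⟩ := AmpleVan.RelVanish.pullback_tensorPow π L m
  obtain ⟨e'⟩ := AmpleVan.RelVanish.tensor_congr e (Iso.refl M)
  let c₁ := CurveTensor.commIso ((Scheme.Modules.pushforward π).obj M) (CohB1.tensorPow L m)
  let c₂ := CurveTensor.commIso (CohB1.tensorPow ((Scheme.Modules.pullback π).obj L) m) M
  unfold ShStab.twist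
  exact ⟨c₁ ≪≫ a ≪≫ (Scheme.Modules.pushforward π).mapIso (e' ≪≫ c₂)⟩

include hπ in
/-- The Euler characteristic of a twist is that of the twisted direct image. -/
theorem euler_twist_push (hL : PicF.IsInvertible L) {M : Y.Modules} (hM : Coh.IsQCoh M) (m : ℕ) :
    Curv2.euler k X (ShStab.twist X L ((Scheme.Modules.pushforward π).obj M) m) =
      Curv2.euler k Y (ShStab.twist Y ((Scheme.Modules.pullback π).obj L) M m) := by
  obtain ⟨a⟩ := nonempty_twist_push π hL M m
  have hQ : Coh.IsQCoh (ShStab.twist Y ((Scheme.Modules.pullback π).obj L) M m) :=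
    KFlatLib.isQCoh_tensor hM (ProjUPX.isQCoh_of_isInvertible
      (InvX.isInvertible_tensorPow (PicClLib.isInvertible_pullback π hL) m))
  refine (CurveCohLib.euler_congr (k := k) a).trans ?_
  refine (finsum_congr fun i => ?_).symm
  obtain ⟨l⟩ := PnCoh.exists_linearEquiv_push k π hπ hQ i
  rw [l.finrank_eq]

include hπ in
theorem isHilbPoly_push_iff (hL : PicF.IsInvertible L) {M : Y.Modules} (hM : Coh.IsQCoh M) (P : ℚ[X]) :
    ShStab.IsHilbPoly k Y ((Scheme.Modules.pullback π).obj L) M P ↔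
      ShStab.IsHilbPoly k X L ((Scheme.Modules.pushforward π).obj M) P :=
  forall_congr' fun m => by rw [euler_twist_push k π hπ hL hM m]

include hπ hV in
/-- A submodule of a direct image comes from a submodule upstairs, up to finitely many points. -/
theorem exists_image {E : Y.Modules} (hE : Coh.IsCoh E) {F : X.Modules} (hF : Coh.IsCoh F)
    (ι : F ⟶ (Scheme.Modules.pushforward π).obj E) [Mono ι] :
    ∃ (G : Y.Modules) (j : G ⟶ E) (t : F ⟶ (Scheme.Modules.pushforward π).obj G), Mono j ∧ Mono t ∧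
      Coh.IsCoh G ∧ t ≫ (Scheme.Modules.pushforward π).map j = ι ∧
      Subsingleton ((cokernel t).presheaf.stalk (genericPoint X)) := by
  haveI : IsProper (Y ↘ Spec (CommRingCat.of k)) := hπ ▸ inferInstance
  haveI := CurveCohLib.isNoetherian_of_proper (k := k) (X := X)
  haveI := CurveCohLib.isNoetherian_of_proper (k := k) (X := Y)
  let adj := Scheme.Modules.pullbackPushforwardAdjunction π
  let a : (Scheme.Modules.pullback π).obj F ⟶ E := (adj.homEquiv F E).symm ι
  have hP : Coh.IsCoh ((Scheme.Modules.pullback π).obj F) := ZClosLib.isCoh_pullback π hF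
  have hG : Coh.IsCoh (Abelian.image a) := QCoh.isCoh_kernel hE (QCoh.isCoh_cokernel hP.1 hE a) _
  let t : F ⟶ (Scheme.Modules.pushforward π).obj (Abelian.image a) :=
    adj.unit.app F ≫ (Scheme.Modules.pushforward π).map (Abelian.factorThruImage a)
  have ht : t ≫ (Scheme.Modules.pushforward π).map (Abelian.image.ι a) = ι := by
    rw [Category.assoc, ← Functor.map_comp, Abelian.image.fac]
    exact ((adj.homEquiv_unit (f := a)).symm.trans ((adj.homEquiv F E).apply_symm_apply ι))
  haveI : Mono t := mono_of_mono_fac ht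
  refine ⟨_, Abelian.image.ι a, t, inferInstance, inferInstance, hG, ht, ?_⟩
  have hη : genericPoint X ∈ V := let ⟨v, hv⟩ := hV; TorLib.genericPoint_mem hv
  haveI : IsIso ((DerSch.stalkFunctor X (genericPoint X)).map (adj.unit.app F)) := by
    refine KFlatLib.isIso_stalk_of_restrict _ hη (H23.PullPush.isIso_restrict_unit π V F ?_)
    exact isIso_pullPush_unit (π ∣_ V) _
  haveI : Epi ((Scheme.Modules.pushforward π).map (Abelian.factorThruImage a)) :=
    AmpleVan.epi_push π hP.1 hG.1 _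
  let St := DerSch.stalkFunctor X (genericPoint X)
  haveI : Epi (St.map t) := by
    show Epi (St.map (_ ≫ _))
    rw [St.map_comp]
    exact epi_comp _ _
  have hz : IsZero (St.obj (cokernel t)) := by
    have h1 : St.map t ≫ St.map (cokernel.π t) = 0 := by rw [← St.map_comp, cokernel.condition, St.map_zero]
    have h2 : St.map (cokernel.π t) = 0 := by rw [← cancel_epi (St.map t), h1, Limits.comp_zero]
    rw [IsZero.iff_id_eq_zero, ← cancel_epi (St.map (cokernel.π t)), h2, Limits.zero_comp, Limits.zero_comp]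
  exact ModuleCat.subsingleton_of_isZero hz
where
  isIso_pullPush_unit {A B : Scheme.{u}} (i : A ⟶ B) [IsIso i] (M : B.Modules) :
      IsIso ((Scheme.Modules.pullbackPushforwardAdjunction i).unit.app M) := by
    have h := Adjunction.unit_leftAdjointUniq_hom_app (Scheme.Modules.restrictAdjunction i)
      (Scheme.Modules.pullbackPushforwardAdjunction i) M
    haveI := CurveTensor.isIso_unit_of_isIso i M
    rw [← h]
    infer_instance

include hπ hV in
/-- The data of a submodule of the direct image. -/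
theorem sub_data (hdim : topologicalKrullDim X = 1) (hL : CohB1.IsAmple L) {E : Y.Modules}
    (hE : FlatMod.IsFinLocFree E) {F : X.Modules} (hF : Coh.IsCoh F) (hF0 : ¬ IsZero F)
    (ι : F ⟶ (Scheme.Modules.pushforward π).obj E) [Mono ι] {pF : ℚ[X]}
    (hpF : ShStab.IsHilbPoly k X L F pF) :
    ∃ (G : Y.Modules) (j : G ⟶ E) (pG : ℚ[X]), Mono j ∧ Coh.IsCoh G ∧ ¬ IsZero G ∧
      ShStab.IsHilbPoly k Y ((Scheme.Modules.pullback π).obj L) G pG ∧ alpha 1 pG = alpha 1 pF ∧
      PolyLE pF pG ∧ 0 < alpha 1 pF ∧ (IsIso j → ¬ IsIso ι → PolyLT pF pG) := by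
  haveI : IsProper (Y ↘ Spec (CommRingCat.of k)) := hπ ▸ inferInstance
  haveI := CurveCohLib.isNoetherian_of_proper (k := k) (X := X)
  haveI := CurveCohLib.isNoetherian_of_proper (k := k) (X := Y)
  have hEc : Coh.IsCoh E := CurveDeg.isCoh_of_isFinLocFree hE
  have hπE : Coh.IsCoh ((Scheme.Modules.pushforward π).obj E) := QCoh.isCoh_pushforward_finite π hEc
  have hfaith := (secFaithful_of_isFinLocFree hE).push π (generic_eq π V hV)
  have hFdim : topologicalKrullDim ↥(CohB1.support F) = (1 : ℕ) := isPure_of_secFaithful hdim hfaith F ι inferInstance hF hF0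
  obtain ⟨G, j, t, hj, ht, hG, hfac, hsub⟩ := exists_image k π hπ V hV hEc hF ι
  haveI := hj; haveI := ht
  have hπG : Coh.IsCoh ((Scheme.Modules.pushforward π).obj G) := QCoh.isCoh_pushforward_finite π hG
  haveI : Mono ((Scheme.Modules.pushforward π).map j) := inferInstance
  have hd1 : ∀ (M : X.Modules), topologicalKrullDim ↥(CohB1.support M) ≤ ((1 : ℕ) : WithBot ℕ∞) := fun M =>
    (Topology.IsInducing.subtypeVal.topologicalKrullDim_le).trans hdim.le
  obtain ⟨pG, hpG, -, -⟩ := HilbPoly.exists_hilb (k := k) hL.1 hπG (hd1 _)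
  obtain ⟨hC, hdC, hpC⟩ := HilbPoly.cokernel_data hL hF hπG (hd1 _) t hpF hpG
  have hα0 : alpha 1 (pG - pF) = 0 := by
    have hne : CohB1.support (cokernel t) ≠ Set.univ := fun h =>
      (h.symm.subset (Set.mem_univ (genericPoint X))) hsub
    have hlt : topologicalKrullDim ↥(CohB1.support (cokernel t)) < ((1 : ℕ) : WithBot ℕ∞) :=
      lt_of_le_of_lt (CurveDeg.topologicalKrullDim_le_zero_of_ne_univ hdim.le
        (QCoh.isClosed_support_of_isFT hC.1 hC.2) hne) (by exact_mod_cast Nat.zero_lt_one)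
    have := ParShLib.degree_lt_of_support k hL hC (Set.Subset.refl _) hlt hpC
    rw [alpha, Polynomial.coeff_eq_zero_of_degree_lt (n := 1) this, mul_zero]
  have hα : alpha 1 pG = alpha 1 pF := by
    unfold alpha at hα0 ⊢
    rw [Polynomial.coeff_sub, mul_sub] at hα0
    linarith
  obtain ⟨N, hN⟩ := HilbPoly.hilb_nonneg hL hC hdC hpC
  refine ⟨G, j, pG, hj, hG, fun hz => hF0 ((IsZero.iff_id_eq_zero F).2 ?_),
    (isHilbPoly_push_iff k π hπ hL.1 hG.1 pG).2 hpG, hα, ⟨N, fun m hm => ?_⟩,
    HilbPoly.alpha_pos hL hF hFdim hpF, fun hji hιi => ?_⟩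
  · rw [← cancel_mono ι, ← hfac, hz.eq_of_src j 0, (Scheme.Modules.pushforward π).map_zero, Limits.comp_zero, Limits.comp_zero, Limits.zero_comp]
  · have := hN m hm
    simp only [eval_zero, eval_sub] at this
    linarith
  · have hnz : ¬ IsZero (cokernel t) := fun hz => hιi (by
      haveI : Epi t := Preadditive.epi_of_isZero_cokernel _ hz
      haveI : IsIso t := isIso_of_mono_of_epi t
      haveI := hji
      rw [← hfac]
      infer_instance)
    obtain ⟨N', hN'⟩ := HilbPoly.hilb_eventually_pos hL hC hnz hdC hpC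
    exact ⟨N', fun m hm => by have := hN' m hm; simp only [eval_sub] at this; linarith⟩

include hπ in
theorem push_sub {E G : Y.Modules} (hE : Coh.IsCoh E) (j : G ⟶ E) [Mono j] (hG : Coh.IsCoh G)
    (hG0 : ¬ IsZero G) (hj : ¬ IsIso j) :
    Coh.IsCoh ((Scheme.Modules.pushforward π).obj G) ∧ ¬ IsZero ((Scheme.Modules.pushforward π).obj G) ∧
      ¬ IsIso ((Scheme.Modules.pushforward π).map j) := by
  haveI : IsProper (Y ↘ Spec (CommRingCat.of k)) := hπ ▸ inferInstance
  haveI := CurveCohLib.isNoetherian_of_proper (k := k) (X := X)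
  haveI := CurveCohLib.isNoetherian_of_proper (k := k) (X := Y)
  refine ⟨QCoh.isCoh_pushforward_finite π hG, fun hz => hG0 (isZero_of_push π hG.1 hz), fun hi => hj ?_⟩
  haveI := hi
  have hEq : Coh.IsQCoh E := hE.1
  have hC : Coh.IsCoh (cokernel j) := QCoh.isCoh_cokernel hG.1 hE j
  have h0 : (Scheme.Modules.pushforward π).map (cokernel.π j) = 0 := by
    rw [← cancel_epi ((Scheme.Modules.pushforward π).map j), ← Functor.map_comp, cokernel.condition,
      Functor.map_zero, Limits.comp_zero]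
  haveI := AmpleVan.epi_push π hEq hC.1 (cokernel.π j)
  have hz : IsZero ((Scheme.Modules.pushforward π).obj (cokernel j)) := by
    rw [IsZero.iff_id_eq_zero, ← cancel_epi ((Scheme.Modules.pushforward π).map (cokernel.π j)), h0, Limits.zero_comp, Limits.zero_comp]
  haveI : Epi j := Preadditive.epi_of_isZero_cokernel _ (isZero_of_push π hC.1 hz)
  exact isIso_of_mono_of_epi j
where
  isZero_of_push (π : Y ⟶ X) [IsFinite π] {M : Y.Modules} (hM : Coh.IsQCoh M)
      (hz : IsZero ((Scheme.Modules.pushforward π).obj M)) : IsZero M := by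
    refine (IsZero.iff_id_eq_zero M).2 (QCoh.hom_ext_app fun U s => ?_)
    refine TopCat.Presheaf.section_ext (⟨M.presheaf, M.isSheaf⟩ : TopCat.Sheaf Ab Y.toTopCat) U _ _ fun y hy => ?_
    obtain ⟨_, ⟨W, hW, rfl⟩, hyW, -⟩ := X.isBasis_affineOpens.exists_subset_of_mem_open (Set.mem_univ (π y)) isOpen_univ
    have hsec : ∀ t : Γ(M, π ⁻¹ᵁ W), t = 0 := fun t => by
      have h := congrArg (fun φ : (Scheme.Modules.pushforward π).obj M ⟶ _ => φ.app W t) (hz.eq_of_src (𝟙 _) 0)
      exact h
    have hst : Subsingleton (M.presheaf.stalk y) := by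
      letI := QCoh.stalkModule M (show y ∈ π ⁻¹ᵁ W from hyW)
      haveI := QCoh.isLocalizedModule_germLin hM (hW.preimage π) (show y ∈ π ⁻¹ᵁ W from hyW)
      refine subsingleton_of_forall_eq 0 fun v => ?_
      obtain ⟨⟨m, c⟩, hm⟩ := IsLocalizedModule.surj
        ((hW.preimage π).primeIdealOf ⟨y, hyW⟩).asIdeal.primeCompl (QCoh.germLin M (show y ∈ π ⁻¹ᵁ W from hyW)) v
      refine (IsLocalizedModule.smul_inj (QCoh.germLin M (show y ∈ π ⁻¹ᵁ W from hyW)) c v 0).mp ?_
      rw [hm, smul_zero, hsec m, map_zero]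
    exact hst.elim _ _

include hπ hV in
theorem pure_data (hdim : topologicalKrullDim X = 1) {E : Y.Modules} (hE : FlatMod.IsFinLocFree E) :
    Coh.IsCoh E ∧ Coh.IsCoh ((Scheme.Modules.pushforward π).obj E) ∧ ShStab.IsPure Y E 1 ∧
      ShStab.IsPure X ((Scheme.Modules.pushforward π).obj E) 1 ∧
      (IsZero E ↔ IsZero ((Scheme.Modules.pushforward π).obj E)) := by
  haveI : IsProper (Y ↘ Spec (CommRingCat.of k)) := hπ ▸ inferInstance
  haveI := CurveCohLib.isNoetherian_of_proper (k := k) (X := X)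
  haveI := CurveCohLib.isNoetherian_of_proper (k := k) (X := Y)
  have hEc : Coh.IsCoh E := CurveDeg.isCoh_of_isFinLocFree hE
  exact ⟨hEc, QCoh.isCoh_pushforward_finite π hEc,
    isPure_of_secFaithful ((dim_eq k π hπ V hV).trans hdim) (secFaithful_of_isFinLocFree hE),
    isPure_of_secFaithful hdim ((secFaithful_of_isFinLocFree hE).push π (generic_eq π V hV)),
    fun h => (Scheme.Modules.pushforward π).map_isZero h, fun h => push_sub.isZero_of_push π hEc.1 h⟩

include hπ hV in
theorem isSemistable_push_iff (hdim : topologicalKrullDim X = 1) (hL : CohB1.IsAmple L) {E : Y.Modules}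
    (hE : FlatMod.IsFinLocFree E) :
    ShStab.IsSemistable k Y ((Scheme.Modules.pullback π).obj L) E 1 ↔
      ShStab.IsSemistable k X L ((Scheme.Modules.pushforward π).obj E) 1 := by
  obtain ⟨hEc, hπE, hEp, hπEp, hz⟩ := pure_data k π hπ V hV hdim hE
  have hP := fun P => isHilbPoly_push_iff k π hπ hL.1 hEc.1 P
  refine ⟨fun h => ⟨hπE, fun h0 => h.2.1 (hz.2 h0), hπEp, fun F ι hι hF hF0 hi pF pE hpF hpE => ?_⟩,
    fun h => ⟨hEc, fun h0 => h.2.1 (hz.1 h0), hEp, fun G j hj hG hG0 hi pG pE hpG hpE => ?_⟩⟩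
  · haveI := hι
    obtain ⟨G, j, pG, hj, hG, hG0, hpG, hα, ⟨N, hN⟩, hpos, -⟩ :=
      sub_data k π hπ V hV hdim hL hE hF hF0 ι hpF
    haveI := hj
    have hαE : 0 ≤ alpha 1 pE :=
      HilbPoly.alpha_nonneg hL hπE (HilbPoly.dim_le_of_isPure hπEp hπE) hpE
    by_cases hji : IsIso j
    · obtain rfl : pG = pE := HilbPoly.isHilbPoly_unique
        (HilbPoly.hilb_iso ((Scheme.Modules.pushforward π).mapIso (asIso j))
          ((isHilbPoly_push_iff k π hπ hL.1 hG.1 pG).1 hpG)) hpE
      refine ⟨N, fun m hm => ?_⟩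
      rw [hα, Polynomial.eval_smul, Polynomial.eval_smul]
      exact mul_le_mul_of_nonneg_left (hN m hm) hpos.le
    · obtain ⟨N', hN'⟩ := h.2.2.2 G j hj hG hG0 hji pG pE hpG ((hP pE).2 hpE)
      refine ⟨max N N', fun m hm => ?_⟩
      have h1 := hN' m (le_trans (le_max_right _ _) hm)
      have h2 := mul_le_mul_of_nonneg_left (hN m (le_trans (le_max_left _ _) hm)) hαE
      simp only [Polynomial.eval_smul, smul_eq_mul, hα] at h1 ⊢
      linarith
  · haveI := hj
    obtain ⟨h1, h2, h3⟩ := push_sub k π hπ hEc j hG hG0 hi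
    exact h.2.2.2 _ ((Scheme.Modules.pushforward π).map j) inferInstance h1 h2 h3 pG pE
      ((isHilbPoly_push_iff k π hπ hL.1 hG.1 pG).1 hpG) ((hP pE).1 hpE)

include hπ hV in
theorem isStable_push_iff (hdim : topologicalKrullDim X = 1) (hL : CohB1.IsAmple L) {E : Y.Modules}
    (hE : FlatMod.IsFinLocFree E) :
    ShStab.IsStable k Y ((Scheme.Modules.pullback π).obj L) E 1 ↔
      ShStab.IsStable k X L ((Scheme.Modules.pushforward π).obj E) 1 := by
  obtain ⟨hEc, hπE, hEp, hπEp, hz⟩ := pure_data k π hπ V hV hdim hE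
  have hP := fun P => isHilbPoly_push_iff k π hπ hL.1 hEc.1 P
  refine ⟨fun h => ⟨hπE, fun h0 => h.2.1 (hz.2 h0), hπEp, fun F ι hι hF hF0 hi pF pE hpF hpE => ?_⟩,
    fun h => ⟨hEc, fun h0 => h.2.1 (hz.1 h0), hEp, fun G j hj hG hG0 hi pG pE hpG hpE => ?_⟩⟩
  · haveI := hι
    obtain ⟨G, j, pG, hj, hG, hG0, hpG, hα, ⟨N, hN⟩, hpos, hlt⟩ :=
      sub_data k π hπ V hV hdim hL hE hF hF0 ι hpF
    haveI := hj
    have hαE : 0 ≤ alpha 1 pE :=
      HilbPoly.alpha_nonneg hL hπE (HilbPoly.dim_le_of_isPure hπEp hπE) hpE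
    by_cases hji : IsIso j
    · obtain rfl : pG = pE := HilbPoly.isHilbPoly_unique
        (HilbPoly.hilb_iso ((Scheme.Modules.pushforward π).mapIso (asIso j))
          ((isHilbPoly_push_iff k π hπ hL.1 hG.1 pG).1 hpG)) hpE
      obtain ⟨N', hN'⟩ := hlt hji hi
      refine ⟨N', fun m hm => ?_⟩
      rw [hα, Polynomial.eval_smul, Polynomial.eval_smul]
      exact mul_lt_mul_of_pos_left (hN' m hm) hpos
    · obtain ⟨N', hN'⟩ := h.2.2.2 G j hj hG hG0 hji pG pE hpG ((hP pE).2 hpE)
      refine ⟨max N N', fun m hm => ?_⟩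
      have h1 := hN' m (le_trans (le_max_right _ _) hm)
      have h2 := mul_le_mul_of_nonneg_left (hN m (le_trans (le_max_left _ _) hm)) hαE
      simp only [Polynomial.eval_smul, smul_eq_mul, hα] at h1 ⊢
      linarith
  · haveI := hj
    obtain ⟨h1, h2, h3⟩ := push_sub k π hπ hEc j hG hG0 hi
    exact h.2.2.2 _ ((Scheme.Modules.pushforward π).map j) inferInstance h1 h2 h3 pG pE
      ((isHilbPoly_push_iff k π hπ hL.1 hG.1 pG).1 hpG) ((hP pE).1 hpE)

end Groth.Agent.TFCurvPush
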