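import Groth.Agent.HilbPoly.Sat
import Groth.Agent.HilbPoly.HN
import Groth.Agent.AmpleVan.AdicBase
import Groth.Agent.AmpleVan.RelVanish
import Groth.Agent.PnCoh.PushNat
import Groth.Agent.S0927
import Groth.Agent.Lib.CurveTensor
import Groth.Agent.Lib.CurveDeg
import Groth.Agent.TorLib.Basic
import Groth.Agent.H23.PullPush
import Groth.Agent.KFlatLib.Perfect.Spread
import Groth.Agent.ParShLib.Degree
import Groth.Agent.VarDim.Top
import Groth.Agent.ZClosLib.CohDescent

/-!
# Semistability along a finite birational morphism of integral curves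
-/

set_option autoImplicit false
set_option linter.style.haveILetI false
set_option linter.unusedSectionVars false
set_option maxHeartbeats 800000
set_option backward.isDefEq.respectTransparency false
set_option backward.isDefEq.respectTransparency.types false

universe u
open CategoryTheory CategoryTheory.Limits AlgebraicGeometry TopologicalSpace Opposite

namespace Groth.Agent.TFCurvPush

variable {X Y : Scheme.{u}}

/-- Sections vanishing on a nonempty open vanish. -/
def SecFaithful (M : X.Modules) : Prop :=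
  ∀ (U W : X.Opens) (h : W ≤ U) (_ : (W : Set X).Nonempty) (s : Γ(M, U)),
    M.presheaf.map (homOfLE h).op s = 0 → s = 0

theorem secFaithful_of_isFinLocFree [IsIntegral X] {M : X.Modules} (hM : FlatMod.IsFinLocFree M) :
    SecFaithful M := by
  intro U W h hW s hs
  obtain ⟨w, hw⟩ := hW
  have hξW : genericPoint X ∈ W := TorLib.genericPoint_mem hw
  refine TorLib.eq_zero_of_germ_genericPoint (QCoh.isQCoh_of_isFinLocFree hM) (fun x => ?_) (h hξW) s ?_
  · haveI := QCoh.free_stalk_of_isFinLocFree hM x
    infer_instance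
  · rw [← M.presheaf.germ_res_apply (homOfLE h) (genericPoint X) hξW s, hs, map_zero]

theorem generic_eq [IsIntegral X] [IsIntegral Y] (π : Y ⟶ X) (V : X.Opens) (hV : (V : Set X).Nonempty) [IsIso (π ∣_ V)] :
    π (genericPoint Y) = genericPoint X := by
  obtain ⟨v, hv⟩ := hV
  have hη : genericPoint X ∈ V := TorLib.genericPoint_mem hv
  have hc := congrArg (fun φ => φ.base ((inv (π ∣_ V)).base ⟨genericPoint X, hη⟩)) (morphismRestrict_ι π V)
  simp only [Scheme.Hom.comp_base, TopCat.comp_app] at hc
  have h3 : (π ∣_ V).base ((inv (π ∣_ V)).base ⟨genericPoint X, hη⟩) = ⟨genericPoint X, hη⟩ := by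
    rw [← Scheme.Hom.comp_apply, IsIso.inv_hom_id]; rfl
  rw [h3] at hc
  have h2 := ((genericPoint_specializes ((π ⁻¹ᵁ V).ι.base ((inv (π ∣_ V)).base ⟨genericPoint X, hη⟩))).map π.continuous)
  exact (h2.antisymm (hc ▸ genericPoint_specializes _)).eq.trans hc.symm

theorem SecFaithful.push [IsIntegral X] [IsIntegral Y] (π : Y ⟶ X) {E : Y.Modules} (hE : SecFaithful E)
    (hπ : π (genericPoint Y) = genericPoint X) :
    SecFaithful ((Scheme.Modules.pushforward π).obj E) := by
  intro U W h ⟨w, hw⟩ s hs
  refine hE (π ⁻¹ᵁ U) (π ⁻¹ᵁ W) (π.preimage_mono h) ⟨genericPoint Y, ?_⟩ s hs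
  show π (genericPoint Y) ∈ W
  rw [hπ]
  exact TorLib.genericPoint_mem hw

/-- A coherent submodule of a faithful module has full support. -/
theorem support_eq_univ [IsIntegral X] {M G : X.Modules} (hM : SecFaithful M) (g : G ⟶ M) [Mono g]
    (hG : Coh.IsCoh G) (hG0 : ¬ IsZero G) : CohB1.support G = Set.univ := by
  by_contra hne
  let W : X.Opens := ⟨(CohB1.support G)ᶜ, (QCoh.isClosed_support_of_isFT hG.1 hG.2).isOpen_compl⟩
  obtain ⟨w, hw⟩ : (W : Set X).Nonempty := Set.nonempty_compl.2 hne
  have hsec : ∀ (U : X.Opens) (s : Γ(G, U)), s = 0 := fun U s => by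
    refine QCoh.app_injective g U ?_
    rw [map_zero]
    by_cases hU : (U : Set X).Nonempty
    · obtain ⟨z, hz⟩ := hU
      refine hM U (U ⊓ W) inf_le_left
        ⟨genericPoint X, TorLib.genericPoint_mem hz, TorLib.genericPoint_mem hw⟩ _ ?_
      rw [← QCoh.map_app_comm g (homOfLE (inf_le_left : U ⊓ W ≤ U)) s]
      have h0 : G.presheaf.map (homOfLE (inf_le_left : U ⊓ W ≤ U)).op s = 0 :=
        TopCat.Presheaf.section_ext (⟨G.presheaf, G.isSheaf⟩ : TopCat.Sheaf Ab X.toTopCat) _ _ _ fun y hy => by
          show G.presheaf.germ (U ⊓ W) y hy _ = G.presheaf.germ (U ⊓ W) y hy 0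
          rw [map_zero]
          exact (not_not.1 hy.2 : Subsingleton (G.presheaf.stalk y)).elim _ _
      rw [h0, map_zero]
    · exact TopCat.Presheaf.section_ext (⟨M.presheaf, M.isSheaf⟩ : TopCat.Sheaf Ab X.toTopCat) _ _ _
        fun y hy => absurd ⟨y, hy⟩ hU
  refine hG0 ((IsZero.iff_id_eq_zero G).2 (QCoh.hom_ext_app fun U s => ?_))
  rw [hsec U s, map_zero, map_zero]

theorem isPure_of_secFaithful [IsIntegral X] (hdim : topologicalKrullDim X = 1) {M : X.Modules}
    (hM : SecFaithful M) : ShStab.IsPure X M 1 := fun G g hg hG hG0 => by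
  haveI := hg
  rw [support_eq_univ hM g hG hG0]
  exact (Homeomorph.Set.univ X).isHomeomorph.topologicalKrullDim_eq.trans hdim

end Groth.Agent.TFCurvPush
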